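import Mathlib
import Groth.Prelude.Def_Found
import Groth.Agent.S0568
import Groth.Agent.S0566
import Groth.Agent.RegLocal.Completion
import Groth.Agent.EtaleLib.Reduced

/-!
# Finiteness of integral closures of generically étale domains over analytically unramified local rings
-/

open scoped TensorProduct

namespace Groth.Agent.UnramNorm

universe u

/-- A module of integral elements in a localization of a reduced Nagata ring is finite. -/
theorem finite_integralClosure_localization {C : Type u} [CommRing C] [IsReduced C] (hC : CAlg.IsNagata C)
    (S : Submonoid C) (hS : S ≤ nonZeroDivisors C) (D : Type u) [CommRing D] [Algebra C D]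
    [IsLocalization S D] : Module.Finite C (integralClosure C D) := by
  haveI := hC.1
  haveI : Finite (minimalPrimes C) := (minimalPrimes.finite_of_isNoetherianRing C).to_subtype
  have hp : ∀ q : minimalPrimes C, q.1.IsPrime := fun q => q.2.1.1
  let K : minimalPrimes C → Type u := fun q => haveI := hp q; FractionRing (C ⧸ q.1)
  have hfin : ∀ q : minimalPrimes C, haveI := hp q;
      Module.Finite C (integralClosure (C ⧸ q.1) (FractionRing (C ⧸ q.1))) := fun q => by
    haveI := hp q
    haveI : Module.Finite (C ⧸ q.1) (integralClosure (C ⧸ q.1) (FractionRing (C ⧸ q.1))) :=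
      hC.2 q.1 (FractionRing (C ⧸ q.1)) (Module.Finite.self _)
    exact Module.Finite.trans (C ⧸ q.1) _
  have hunit : ∀ (q : minimalPrimes C) (s : S), haveI := hp q;
      IsUnit (Algebra.ofId C (FractionRing (C ⧸ q.1)) s) := fun q s => by
    haveI := hp q
    refine isUnit_iff_ne_zero.2 ?_
    rw [Algebra.ofId_apply, IsScalarTower.algebraMap_apply C (C ⧸ q.1), ne_eq,
      map_eq_zero_iff _ (IsFractionRing.injective (C ⧸ q.1) (FractionRing (C ⧸ q.1))),
      Ideal.Quotient.algebraMap_eq, Ideal.Quotient.eq_zero_iff_mem]
    exact fun h => (Set.disjoint_left.1 (Ideal.disjoint_nonZeroDivisors_of_mem_minimalPrimes q.2) h) (hS s.2)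
  let ι : ∀ q : minimalPrimes C, haveI := hp q;
      D →ₐ[C] FractionRing (C ⧸ q.1) := fun q => haveI := hp q; IsLocalization.liftAlgHom (hunit q)
  let Ψ : integralClosure C D →ₗ[C] ∀ q : minimalPrimes C, (haveI := hp q;
      integralClosure (C ⧸ q.1) (FractionRing (C ⧸ q.1))) := LinearMap.pi fun q =>
    haveI := hp q
    { toFun := fun x => ⟨ι q x, (x.2.map (ι q)).tower_top⟩
      map_add' := fun x y => Subtype.ext (map_add (ι q) (x : D) y)
      map_smul' := fun c x => Subtype.ext (map_smul (ι q) c (x : D)) }
  have hinj : Function.Injective Ψ := by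
    rw [← LinearMap.ker_eq_bot, Submodule.eq_bot_iff]
    intro x hx
    obtain ⟨c, s, hcs⟩ := IsLocalization.exists_mk'_eq S (x : D)
    have hc : c ∈ sInf (minimalPrimes C) := Submodule.mem_sInf.2 fun q hq => by
      haveI := hp ⟨q, hq⟩
      have h : ι ⟨q, hq⟩ (x : D) = 0 := congrArg Subtype.val (congrFun hx ⟨q, hq⟩)
      have h2 := congrArg (ι ⟨q, hq⟩) (IsLocalization.mk'_spec D c s)
      rw [hcs, map_mul, h, zero_mul, AlgHom.commutes, IsScalarTower.algebraMap_apply C (C ⧸ q)] at h2
      rwa [eq_comm, map_eq_zero_iff _ (IsFractionRing.injective (C ⧸ q) (FractionRing (C ⧸ q))),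
        Ideal.Quotient.algebraMap_eq, Ideal.Quotient.eq_zero_iff_mem] at h2
    rw [minimalPrimes, Ideal.sInf_minimalPrimes] at hc
    apply Subtype.ext
    rw [← hcs, IsReduced.eq_zero c hc, IsLocalization.mk'_zero]; rfl
  haveI : ∀ q : minimalPrimes C, Module.Finite C (haveI := hp q;
      integralClosure (C ⧸ q.1) (FractionRing (C ⧸ q.1))) := hfin
  exact Module.Finite.of_injective Ψ hinj

theorem finite_of_injective_integral {C : Type u} [CommRing C] (hC : IsNoetherianRing C) {D : Type u} [CommRing D]
    [Algebra C D] [Module.Finite C (integralClosure C D)] {M : Type u} [AddCommGroup M] [Module C M] (f : M →ₗ[C] D)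
    (hf : Function.Injective f) (hint : ∀ z, f z ∈ integralClosure C D) : Module.Finite C M := by
  haveI := hC
  exact Module.Finite.of_injective (f.codRestrict (integralClosure C D).toSubmodule hint) fun x y h =>
    hf (congrArg Subtype.val h)

/-- Finiteness of the integral closure descends from a reduced Nagata faithfully flat algebra. -/
theorem finite_of_descent {B : Type u} [CommRing B] [IsDomain B] (C : Type u) [CommRing C] [Algebra B C]
    [Module.FaithfullyFlat B C] [IsReduced C] (hC0 : CAlg.IsNagata C) (L : Type u) [Field L] [Algebra B L]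
    [IsFractionRing B L] : Module.Finite B (integralClosure B L) := by
  let S := Algebra.algebraMapSubmonoid C (nonZeroDivisors B)
  have hS : S ≤ nonZeroDivisors C := by
    rintro _ ⟨x, hx, rfl⟩
    rw [mem_nonZeroDivisors_iff_right]
    intro z hz
    have hreg : IsSMulRegular C x :=
      Module.Flat.isSMulRegular_of_nonZeroDivisors (M := C) hx
    refine hreg (show x • z = x • (0 : C) from ?_)
    rw [smul_zero, ← algebraMap_smul C x z, smul_eq_mul, mul_comm]
    exact hz
  let D := C ⊗[B] L
  haveI : Module.Finite C (integralClosure C D) := finite_integralClosure_localization hC0 S hS D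
  let j : C ⊗[B] integralClosure B L →ₐ[C] D :=
    Algebra.TensorProduct.map (AlgHom.id C C) (integralClosure B L).val
  have hj : Function.Injective j :=
    Module.Flat.lTensor_preserves_injective_linearMap (M := C) (integralClosure B L).val.toLinearMap
      Subtype.val_injective
  have hint : ∀ z, j z ∈ integralClosure C D := fun z => by
    induction z using TensorProduct.induction_on with
    | zero => rw [map_zero]; exact zero_mem _
    | add x y hx hy => rw [map_add]; exact add_mem hx hy
    | tmul c x =>
      have h1 : IsIntegral B (Algebra.TensorProduct.includeRight (R := B) (A := C) (B := L) (x : L)) :=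
        x.2.map Algebra.TensorProduct.includeRight
      have h2 : j (c ⊗ₜ[B] x) = c • Algebra.TensorProduct.includeRight (R := B) (A := C) (B := L) (x : L) := by
        simp [j, TensorProduct.smul_tmul']
        rfl
      rw [h2]
      exact Subalgebra.smul_mem _ h1.tower_top c
  haveI : Module.Finite C (C ⊗[B] integralClosure B L) :=
    finite_of_injective_integral hC0.1 j.toLinearMap hj hint
  exact Module.Finite.of_finite_tensorProduct_of_faithfullyFlat C

variable {A : Type u} [CommRing A] [IsLocalRing A] [IsNoetherianRing A]

theorem isNagata_completion :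
    CAlg.IsNagata (AdicCompletion (IsLocalRing.maximalIdeal A) A) := by
  have hne : IsLocalRing.maximalIdeal A ≠ ⊤ := (IsLocalRing.maximalIdeal.isMaximal A).ne_top
  haveI := RegLocal.isLocalRing_completion A _ hne
  haveI : IsAdicComplete (IsLocalRing.maximalIdeal (AdicCompletion (IsLocalRing.maximalIdeal A) A))
      (AdicCompletion (IsLocalRing.maximalIdeal A) A) := by
    rw [RegLocal.maximalIdeal_completion A _ hne]
    exact AdicCompletion.isAdicComplete_self _ (Ideal.fg_of_isNoetherianRing _)
  exact Groth.Agent.S0568.result _

/-- Rees: a finite type domain, generically étale over an analytically unramified Noetherian local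
ring, has finite integral closure in its fraction field. -/
theorem finite_integralClosure [IsReduced (AdicCompletion (IsLocalRing.maximalIdeal A) A)]
    (B : Type u) [CommRing B] [IsDomain B] [Algebra A B] [Algebra.FiniteType A B] (b : B) (hb : b ≠ 0)
    [Algebra.Etale A (Localization.Away b)] (L : Type u) [Field L] [Algebra B L] [IsFractionRing B L] :
    Module.Finite B (integralClosure B L) := by
  let Ah := AdicCompletion (IsLocalRing.maximalIdeal A) A
  haveI : Module.FaithfullyFlat A Ah :=
    RegLocal.faithfullyFlat_completion A _ (IsLocalRing.maximalIdeal.isMaximal A).ne_top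
  let C := B ⊗[A] Ah
  have hC0 : CAlg.IsNagata C := by
    letI : Algebra Ah C := Algebra.TensorProduct.rightAlgebra
    haveI : Algebra.FiniteType Ah C :=
      Algebra.FiniteType.equiv (inferInstance : Algebra.FiniteType Ah (Ah ⊗[A] B))
        { toRingEquiv := (Algebra.TensorProduct.comm A Ah B).toRingEquiv
          commutes' := fun _ => rfl }
    exact Groth.Agent.S0566.result Ah isNagata_completion C
  haveI : IsReduced C := by
    haveI : IsReduced (Ah ⊗[A] Localization.Away b) := EtaleLib.isReduced_of_etale (A := Ah) _
    let g : C →ₐ[A] Localization.Away b ⊗[A] Ah :=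
      Algebra.TensorProduct.map (IsScalarTower.toAlgHom A B (Localization.Away b)) (AlgHom.id A Ah)
    have hg : Function.Injective g :=
      Module.Flat.rTensor_preserves_injective_linearMap (M := Ah)
        (IsScalarTower.toAlgHom A B (Localization.Away b)).toLinearMap
        (IsLocalization.injective (Localization.Away b) (powers_le_nonZeroDivisors_of_noZeroDivisors hb))
    haveI : IsReduced (Localization.Away b ⊗[A] Ah) :=
      isReduced_of_injective (Algebra.TensorProduct.comm A (Localization.Away b) Ah)
        (AlgEquiv.injective _)
    exact isReduced_of_injective g hg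
  exact finite_of_descent C hC0 L

end Groth.Agent.UnramNorm
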