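import Groth.Agent.UnramNorm.Basic

/-!
# Finiteness of integral closures via a completion that is a domain locally outside the closed fibre
-/

open scoped TensorProduct

namespace Groth.Agent.UnramNorm

universe u

variable {A : Type u} [CommRing A] [IsLocalRing A] [IsNoetherianRing A]

/-- If the base change of a finite type domain to the completion is reduced, its integral closure is finite. -/
theorem finite_integralClosure_of_isReduced (B : Type u) [CommRing B] [IsDomain B] [Algebra A B]
    [Algebra.FiniteType A B] [IsReduced (B ⊗[A] AdicCompletion (IsLocalRing.maximalIdeal A) A)]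
    (L : Type u) [Field L] [Algebra B L] [IsFractionRing B L] : Module.Finite B (integralClosure B L) := by
  let Ah := AdicCompletion (IsLocalRing.maximalIdeal A) A
  haveI : Module.FaithfullyFlat A Ah :=
    RegLocal.faithfullyFlat_completion A _ (IsLocalRing.maximalIdeal.isMaximal A).ne_top
  let C := B ⊗[A] Ah
  have hC0 : CAlg.IsNagata C := by
    letI : Algebra Ah C := Algebra.TensorProduct.rightAlgebra
    haveI : Algebra.FiniteType Ah C :=
      Algebra.FiniteType.equiv (inferInstance : Algebra.FiniteType Ah (Ah ⊗[A] B))
        { toRingEquiv := (Algebra.TensorProduct.comm A Ah B).toRingEquiv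
          commutes' := fun _ => rfl }
    exact Groth.Agent.S0566.result Ah isNagata_completion C
  exact finite_of_descent C hC0 L

/-- The integral closure of a finite type domain over a local ring is finite if the base change to the
completion is locally a domain away from the closed fibre. -/
theorem finite_integralClosure_of_domain_off (B : Type u) [CommRing B] [IsDomain B] [Algebra A B]
    [Algebra.FiniteType A B]
    (h : ∀ (P : Ideal (B ⊗[A] AdicCompletion (IsLocalRing.maximalIdeal A) A)) [P.IsPrime],
      ¬ (IsLocalRing.maximalIdeal A).map (algebraMap A (B ⊗[A] AdicCompletion (IsLocalRing.maximalIdeal A) A)) ≤ P →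
      IsDomain (Localization.AtPrime P))
    (L : Type u) [Field L] [Algebra B L] [IsFractionRing B L] : Module.Finite B (integralClosure B L) := by
  by_cases hm : (IsLocalRing.maximalIdeal A).map (algebraMap A B) = ⊥
  · -- `B` is of finite type over the residue field
    let ψ : A ⧸ IsLocalRing.maximalIdeal A →+* B := Ideal.Quotient.lift _ (algebraMap A B) fun a ha => by
      have h := Ideal.mem_map_of_mem (algebraMap A B) ha
      rwa [hm, Ideal.mem_bot] at h
    letI : Field (A ⧸ IsLocalRing.maximalIdeal A) := Ideal.Quotient.field _
    letI : Algebra (A ⧸ IsLocalRing.maximalIdeal A) B := ψ.toAlgebra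
    haveI : IsScalarTower A (A ⧸ IsLocalRing.maximalIdeal A) B := IsScalarTower.of_algebraMap_eq fun _ => rfl
    haveI : Algebra.FiniteType (A ⧸ IsLocalRing.maximalIdeal A) B :=
      Algebra.FiniteType.of_restrictScalars_finiteType A _ _
    have hk : CAlg.IsNagata (A ⧸ IsLocalRing.maximalIdeal A) := by
      haveI : IsAdicComplete (IsLocalRing.maximalIdeal (A ⧸ IsLocalRing.maximalIdeal A)) (A ⧸ IsLocalRing.maximalIdeal A) := by
        rw [IsLocalRing.maximalIdeal_eq_bot]; infer_instance
      exact Groth.Agent.S0568.result _
    exact finite_of_descent B (Groth.Agent.S0566.result _ hk B) L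
  · haveI : Module.FaithfullyFlat A (AdicCompletion (IsLocalRing.maximalIdeal A) A) :=
      RegLocal.faithfullyFlat_completion A _ (IsLocalRing.maximalIdeal.isMaximal A).ne_top
    set C := B ⊗[A] AdicCompletion (IsLocalRing.maximalIdeal A) A
    haveI : IsReduced C := by
      refine ⟨fun c hc => ?_⟩
      let S := Algebra.algebraMapSubmonoid C (nonZeroDivisors B)
      let J := (⊥ : Ideal C).colon {c}
      obtain ⟨s, hsJ, hsS⟩ : ∃ s ∈ J, s ∈ S := by
        by_contra hne
        push Not at hne
        obtain ⟨P, hP, hJP, hPS⟩ := Ideal.exists_le_prime_disjoint J S (Set.disjoint_left.2 hne)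
        haveI := hP
        have hP' : ¬ (IsLocalRing.maximalIdeal A).map (algebraMap A C) ≤ P := by
          intro hle
          obtain ⟨x, hx, hx0⟩ := Submodule.exists_mem_ne_zero_of_ne_bot hm
          refine Set.disjoint_left.1 hPS ?_ ⟨x, mem_nonZeroDivisors_of_ne_zero hx0, rfl⟩
          refine hle ?_
          rw [IsScalarTower.algebraMap_eq A B C, ← Ideal.map_map]
          exact Ideal.mem_map_of_mem _ hx
        haveI := h P hP'
        obtain ⟨t, ht⟩ := (IsLocalization.map_eq_zero_iff P.primeCompl (Localization.AtPrime P) c).1
          (hc.map (algebraMap C (Localization.AtPrime P))).eq_zero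
        exact t.2 (hJP (Submodule.mem_colon.2 fun x hx => by
          rw [Set.mem_singleton_iff.1 hx, Submodule.mem_bot, smul_eq_mul]; exact ht))
      obtain ⟨x, hx, rfl⟩ := hsS
      have h0 : x • c = x • (0 : C) := by
        rw [smul_zero, ← algebraMap_smul C x c, smul_eq_mul]
        simpa using Submodule.mem_colon.1 hsJ c rfl
      exact Module.Flat.isSMulRegular_of_nonZeroDivisors (M := C) hx h0
    exact finite_integralClosure_of_isReduced (A := A) B L

end Groth.Agent.UnramNorm
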